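import Groth.Prelude.Def_DualSh
import Groth.Agent.DRingKP.LTensorCx
import Groth.Agent.DRingKP.ResAmp
import Groth.Agent.DRingKP.TorAmp
import Groth.Agent.DRingKP.Res
import Mathlib.Algebra.Category.ModuleCat.Products

/-!
Relatively perfect complexes: a bounded representative with terms flat over the base, and
stability under the derived tensor product with a perfect complex.
-/

set_option autoImplicit false
set_option linter.style.haveILetI false
universe u

open scoped TensorProduct
open CategoryTheory Limits MonoidalCategory DerivedCategory HomologicalComplex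

namespace Groth.Agent.W7RelPerf

open Groth.Agent.DRingKP

attribute [local instance] HasDerivedCategory.standard

/-- a module over `A`, viewed over `R` -/
noncomputable abbrev rsM (R A : Type u) [CommRing R] [CommRing A] [Algebra R A] :
    ModuleCat.{u} A ⥤ ModuleCat.{u} R :=
  ModuleCat.restrictScalars.{u} (algebraMap R A)

variable {R A : Type u} [CommRing R] [CommRing A] [Algebra R A]

/-- termwise restriction of scalars -/
noncomputable abbrev rsC (R A : Type u) [CommRing R] [CommRing A] [Algebra R A] :
    DRing.Cx A ⥤ DRing.Cx R :=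
  (rsM R A).mapHomologicalComplex (ComplexShape.up ℤ)

theorem isRelPerfect_of_isPerfect [Module.Flat R A] {K : Dual.D A} (hK : DRing.IsPerfect A K) :
    Dual2.IsRelPerfect R A K := by
  refine ⟨pc'_of_isPerfect hK, ?_⟩
  obtain ⟨a, b, hab⟩ := finiteTor_of_isPerfect hK
  have hA : DRing.HasTorAmplitudeIn R (-((0 : ℕ) : ℤ)) 0 (Dual.inD R A) := by
    let G := (HomologicalComplex.single (ModuleCat.{u} R) (ComplexShape.up ℤ) 0).obj (ModuleCat.of R A)
    refine ⟨G, fun i hi => HomologicalComplex.isZero_single_obj_X _ _ _ _ (by omega), fun i => ?_,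
      ⟨((DerivedCategory.singleFunctorIsoCompQ (ModuleCat.{u} R) 0).app (ModuleCat.of R A)).symm⟩⟩
    by_cases hi : i = 0
    · subst hi
      exact Module.Flat.of_linearEquiv
        (HomologicalComplex.singleObjXSelf (ComplexShape.up ℤ) 0 (ModuleCat.of R A)).toLinearEquiv
    · haveI := ModuleCat.subsingleton_of_isZero
        (HomologicalComplex.isZero_single_obj_X (ComplexShape.up ℤ) 0 (ModuleCat.of R A) i hi)
      infer_instance
  exact ⟨_, b, amp_res 0 hA K a b hab⟩

/-- a relatively perfect complex has a bounded above projective resolution `P` with a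
quasi-isomorphism to a bounded complex whose terms are flat over the base -/
theorem exists_rep [Module.Flat R A] {K : Dual.D A} (hK : Dual2.IsRelPerfect R A K) :
    ∃ (P Q : DRing.Cx A) (f : P ⟶ Q) (a c : ℤ),
      DRing.VanishesAbove P c ∧ DRing.TermwiseFiniteProjective P ∧ QuasiIso f ∧
      DRing.VanishesOutside Q a c ∧ DRing.TermwiseFlat ((rsC R A).obj Q) ∧
      Nonempty (DRing.toD P ≅ K) := by
  obtain ⟨hpc, a, b, hab⟩ := hK
  obtain ⟨P, c, hc, hP, ⟨e⟩⟩ := pc'_iff_projective.1 hpc
  have hPR : DRing.TermwiseFlat ((rsC R A).obj P) := fun i => by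
    letI : Module R (P.X i) := Module.compHom _ (algebraMap R A)
    haveI : IsScalarTower R A (P.X i) :=
      ⟨fun r x y => by rw [Algebra.smul_def, mul_smul]; rfl⟩
    haveI := (hP i).2
    exact Module.Flat.trans R A (P.X i)
  have hc' : DRing.VanishesAbove ((rsC R A).obj P) c := fun i hi => (rsM R A).map_isZero (hc i hi)
  have hv : Van a b ((rsC R A).obj P) := torVan_rep (torVan_of_amp hab) hc' hPR
    (((rsM R A).mapDerivedCategoryFactors.app P).symm ≪≫
      (DRing.restrictD (algebraMap R A)).mapIso e)
  have hz : ∀ i, i < a → IsZero (P.homology i) := fun i hi => by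
    have h := (isZero_homology_of_van hv (Or.inl hi)).of_iso ((P.sc i).mapHomologyIso (rsM R A)).symm
    haveI := ModuleCat.subsingleton_of_isZero h
    exact @ModuleCat.isZero_of_subsingleton _ _ _ ‹_›
  haveI : P.IsGE a := (CochainComplex.isGE_iff P a).2 fun i hi =>
    (HomologicalComplex.exactAt_iff_isZero_homology _ _).2 (hz i hi)
  haveI : QuasiIso (P.πTruncGE a) := (CochainComplex.quasiIso_πTruncGE_iff P a).2 inferInstance
  haveI : P.IsStrictlyLE c := (CochainComplex.isStrictlyLE_iff P c).2 hc
  let T := P.sc' (a - 1) a (a + 1)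
  let eop : (P.truncGE a).X a ≅ ModuleCat.of A (P.X a ⧸ LinearMap.range (P.d (a - 1) a).hom) :=
    P.truncGEXIsoOpcycles a ≪≫ P.opcyclesIsoSc' (a - 1) a (a + 1) (by simp) (by simp) ≪≫
      T.moduleCatOpcyclesIso
  refine ⟨P, P.truncGE a, P.πTruncGE a, a, c, hc, hP, inferInstance, fun i hi => ?_, fun i => ?_,
    ⟨e⟩⟩
  · rcases hi with hi | hi
    · exact (P.truncGE a).isZero_of_isStrictlyGE a i hi
    · exact (P.truncGE a).isZero_of_isStrictlyLE c i hi
  · rcases lt_trichotomy i a with hi | rfl | hi
    · haveI := ModuleCat.subsingleton_of_isZero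
        ((rsM R A).map_isZero ((P.truncGE a).isZero_of_isStrictlyGE a i hi))
      exact inferInstanceAs (Module.Flat R ((rsM R A).obj ((P.truncGE a).X i)))
    · haveI := flat_coker hPR i fun M => hv M (i - 1) (Or.inl (by lia))
      let l : (((rsC R A).obj P).X i ⧸ LinearMap.range (((rsC R A).obj P).d (i - 1) i).hom) ≃ₗ[R]
          (rsM R A).obj (ModuleCat.of A (P.X i ⧸ LinearMap.range (P.d (i - 1) i).hom)) :=
        { toFun := Quotient.map' id (fun x y h => by
            rw [Submodule.quotientRel_def] at h ⊢; exact h)
          map_add' := fun x y => by induction x using Submodule.Quotient.induction_on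
                                    induction y using Submodule.Quotient.induction_on
                                    rfl
          map_smul' := fun r x => by induction x using Submodule.Quotient.induction_on
                                     rfl
          invFun := Quotient.map' id (fun x y h => by
            rw [Submodule.quotientRel_def] at h ⊢; exact h)
          left_inv := fun x => by induction x using Submodule.Quotient.induction_on
                                  rfl
          right_inv := fun x => by induction x using Submodule.Quotient.induction_on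
                                   rfl }
      exact Module.Flat.of_linearEquiv (((rsM R A).mapIso eop).toLinearEquiv.trans l.symm)
    · haveI : Module.Flat R ((rsM R A).obj (P.X i)) := hPR i
      exact Module.Flat.of_linearEquiv ((rsM R A).mapIso (P.truncGEXIso a i hi)).toLinearEquiv

theorem flat_rs (N : Type u) [AddCommGroup N] [Module R N] [Module A N] [IsScalarTower R A N]
    [Module.Flat R N] : Module.Flat R ((rsM R A).obj (ModuleCat.of A N)) :=
  let l : ((rsM R A).obj (ModuleCat.of A N)) ≃ₗ[R] N :=
    { toFun := fun x => x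
      map_add' := fun _ _ => rfl
      map_smul' := fun r x => algebraMap_smul A r (show N from x)
      invFun := fun x => x
      left_inv := fun _ => rfl
      right_inv := fun _ => rfl }
  Module.Flat.of_linearEquiv l

/-- `M ⊗_A E` is flat over `R` for `M` flat over `R` and `E` projective over `A` -/
theorem flat_tensor {M E : ModuleCat.{u} A} (hM : Module.Flat R ((rsM R A).obj M))
    [Module.Projective A E] : Module.Flat R ((rsM R A).obj (M ⊗ E)) := by
  classical
  letI : Module R M := Module.compHom _ (algebraMap R A)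
  haveI : IsScalarTower R A M := ⟨fun r x y => by rw [Algebra.smul_def, mul_smul]; rfl⟩
  haveI : Module.Flat R M := hM
  obtain ⟨s, hs⟩ := (Module.projective_def' (R := A) (P := E)).mp inferInstance
  haveI : Module.Flat R (E →₀ M) := Module.Flat.of_linearEquiv (finsuppLequivDFinsupp R)
  haveI : Module.Flat R (M ⊗[A] (E →₀ A)) :=
    Module.Flat.of_linearEquiv ((TensorProduct.finsuppScalarRight A A M E).restrictScalars R)
  haveI : Module.Flat R (M ⊗[A] E) :=
    Module.Flat.of_retract ((s.lTensor M).restrictScalars R)
      (((Finsupp.linearCombination A id).lTensor M).restrictScalars R) (by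
        ext x
        change (Finsupp.linearCombination A id).lTensor M (s.lTensor M x) = x
        rw [← LinearMap.lTensor_comp_apply, hs, LinearMap.lTensor_id]
        rfl)
  exact flat_rs (M ⊗[A] E)

theorem flat_tensor_cx {Q E : DRing.Cx A} (hQ : DRing.TermwiseFlat ((rsC R A).obj Q))
    (hE : ∀ i, Module.Projective A (E.X i)) (n : ℤ) :
    Module.Flat R ((rsM R A).obj ((Q ⊗ E).X n)) := by
  classical
  let g : ((ComplexShape.π (ComplexShape.up ℤ) (ComplexShape.up ℤ) (ComplexShape.up ℤ)) ⁻¹' {n}) →
      ModuleCat.{u} A := fun i => Q.X i.1.1 ⊗ E.X i.1.2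
  haveI : ∀ x, Module.Flat R ((rsM R A).obj (g x)) := fun x => by
    haveI := hE x.1.2
    exact flat_tensor (hQ x.1.1)
  haveI : PreservesColimitsOfSize.{0, 0} (rsM R A) := inferInstance
  let e : (rsM R A).obj ((Q ⊗ E).X n) ≅ ModuleCat.of R (DirectSum _ fun x => (rsM R A).obj (g x)) :=
    PreservesCoproduct.iso (rsM R A) g ≪≫ ModuleCat.coprodIsoDirectSum _
  exact Module.Flat.of_linearEquiv e.toLinearEquiv

theorem isRelPerfect_lTensorCx [Module.Flat R A] {M : Dual.D A} (hM : Dual2.IsRelPerfect R A M)
    (E : DRing.Cx A) (a b : ℤ) (hEb : DRing.VanishesOutside E a b)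
    (hEp : DRing.TermwiseFiniteProjective E) [DRing.HasLTensorCx A E] :
    Dual2.IsRelPerfect R A ((DRing.LTensorCx A E).obj M) := by
  obtain ⟨P, Q, f, a', c, hc, hP, hf, hQ, hQf, ⟨e⟩⟩ := exists_rep hM
  have hb : DRing.VanishesAbove E b := fun i hi => hEb i (Or.inr hi)
  refine ⟨pc'_lTensorCx M hM.1 E (pc'_of_isPerfect ⟨E, a, b, hEb, hEp, ⟨Iso.refl _⟩⟩),
    a' + a, c + b, ?_⟩
  haveI : QuasiIso (f ▷ E) := quasiIso_whiskerRight (isKFlat_of_finiteProjective hb hEp) f
  refine amp_of_iso ((DRing.restrictD (algebraMap R A)).mapIso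
    ((asIso (DerivedCategory.Q.map (f ▷ E))).symm ≪≫
      (lTensorCxIso E (isKFlat_of_finiteProjective hc hP)).symm ≪≫
      (DRing.LTensorCx A E).mapIso e)) ?_
  refine ⟨(rsC R A).obj (Q ⊗ E), fun n hn => (rsM R A).map_isZero (tensor_vanishes n fun p q hpq => ?_),
    fun n => flat_tensor_cx hQf (fun i => (hEp i).2) n,
    ⟨((rsM R A).mapDerivedCategoryFactors.app (Q ⊗ E)).symm⟩⟩
  by_cases hp : p < a' ∨ c < p
  · exact Or.inl (hQ p hp)
  · exact Or.inr (hEb q (by lia))

end Groth.Agent.W7RelPerf
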