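import Groth.Agent.W7RelPerf.Basic
import Groth.Agent.DRingKP.TorMore
import Groth.Agent.DRingKP.BC

/-!
Relatively perfect complexes are stable under base change.
-/

set_option autoImplicit false
set_option linter.style.haveILetI false
universe u

open scoped TensorProduct
open CategoryTheory Limits MonoidalCategory DerivedCategory HomologicalComplex

namespace Groth.Agent.W7RelPerf

open Groth.Agent.DRingKP

attribute [local instance] HasDerivedCategory.standard

variable (R A R' : Type u) [CommRing R] [CommRing A] [Algebra R A] [CommRing R'] [Algebra R R']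

local notation "φ" => (Algebra.TensorProduct.includeRight.toRingHom : A →+* R' ⊗[R] A)
local notation "ψ" => algebraMap R R'

/-- the comparison `R' ⊗_R X ⟶ A' ⊗_A X` -/
noncomputable def thetaHom (X : ModuleCat.{u} A) :
    (ModuleCat.extendScalars.{u, u, u} ψ).obj ((rsM R A).obj X) ⟶
      (rsM R' (R' ⊗[R] A)).obj ((ModuleCat.extendScalars.{u, u, u} φ).obj X) :=
  ((ModuleCat.extendRestrictScalarsAdj.{u} ψ).homEquiv ((rsM R A).obj X)
      ((rsM R' (R' ⊗[R] A)).obj ((ModuleCat.extendScalars.{u, u, u} φ).obj X))).symm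
    (ModuleCat.ofHom
      (X := (rsM R A).obj X)
      (Y := (ModuleCat.restrictScalars.{u} ψ).obj
        ((rsM R' (R' ⊗[R] A)).obj ((ModuleCat.extendScalars.{u, u, u} φ).obj X)))
      { toFun := fun x => ((ModuleCat.extendRestrictScalarsAdj.{u} φ).unit.app X).hom x
        map_add' := fun x y => map_add _ x y
        map_smul' := fun r x => by
          refine (((ModuleCat.extendRestrictScalarsAdj.{u} φ).unit.app X).hom.map_smul
            (algebraMap R A r) x).trans ?_
          refine congrArg (fun c : R' ⊗[R] A => c •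
            (show (ModuleCat.extendScalars.{u, u, u} φ).obj X from
              ((ModuleCat.extendRestrictScalarsAdj.{u} φ).unit.app X).hom x)) ?_
          change (1 : R') ⊗ₜ[R] algebraMap R A r = algebraMap R R' r ⊗ₜ[R] (1 : A)
          rw [Algebra.algebraMap_eq_smul_one, Algebra.algebraMap_eq_smul_one,
            TensorProduct.smul_tmul] })

set_option backward.isDefEq.respectTransparency false in
attribute [local instance] Algebra.TensorProduct.rightAlgebra in
lemma thetaHom_bijective (X : ModuleCat.{u} A) : Function.Bijective (thetaHom R A R' X).hom := by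
  letI : Module R X := Module.compHom _ (algebraMap R A)
  haveI : IsScalarTower R A X := ⟨fun r x y => by rw [Algebra.smul_def, mul_smul]; rfl⟩
  let e := (Algebra.IsPushout.cancelBaseChange R R' A (R' ⊗[R] A) X).symm
  let j := (extendTensorIso (A := R) (B := R') X).toLinearEquiv
  let g := (thetaHom R A R' X).hom
  have h : ∀ z, g z = e (j z) := by
    intro z
    induction z using TensorProduct.induction_on with
    | zero => exact (map_zero g).trans ((congrArg e (map_zero j)).trans (map_zero e)).symm
    | tmul s x =>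
      refine Eq.trans ?_ (Algebra.IsPushout.cancelBaseChange_symm_tmul R R' A (R' ⊗[R] A) X s x).symm
      change (((show R' from s) ⊗ₜ[R] (1 : A)) * (1 : R' ⊗[R] A)) ⊗ₜ[A] x = _
      rw [mul_one]
      rfl
    | add a b ha hb =>
      exact (map_add g a b).trans ((congrArg₂ (· + ·) ha hb).trans
        ((congrArg e (map_add j a b)).trans (map_add e _ _)).symm)
  exact (funext h : ⇑g = fun z => e (j z)) ▸ e.bijective.comp j.bijective

/-- `A' ⊗_A -`, viewed over `R'`, is `R' ⊗_R -` -/
noncomputable def theta :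
    rsM R A ⋙ ModuleCat.extendScalars.{u, u, u} ψ ≅
      ModuleCat.extendScalars.{u, u, u} φ ⋙ rsM R' (R' ⊗[R] A) :=
  NatIso.ofComponents (fun X => (LinearEquiv.ofBijective (thetaHom R A R' X).hom
      (thetaHom_bijective R A R' X)).toModuleIso)
    (fun {X Y} g => by
      refine ModuleCat.ExtendScalars.hom_ext fun m => ?_
      rfl)

lemma flat_ext {X : ModuleCat.{u} A} (h : Module.Flat R ((rsM R A).obj X)) :
    Module.Flat R' ((rsM R' (R' ⊗[R] A)).obj ((ModuleCat.extendScalars.{u, u, u} φ).obj X)) := by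
  haveI := h
  exact Module.Flat.of_linearEquiv (((theta R A R').app X).symm ≪≫
    extendTensorIso (A := R) (B := R') ((rsM R A).obj X)).toLinearEquiv

theorem isRelPerfect_lBaseChange [Module.Flat R A] [DRing.HasLBaseChange φ] {K : Dual.D A}
    (hK : Dual2.IsRelPerfect R A K) :
    Dual2.IsRelPerfect R' (R' ⊗[R] A) ((DRing.LBaseChange φ).obj K) := by
  obtain ⟨P, Q, f, a, c, hc, hP, hf, hQ, hQf, ⟨e⟩⟩ := exists_rep hK
  refine ⟨pc'_iff.2 fun m => pc_lBaseChange φ K m (pc_of_pc' hK.1 m), a, c, ?_⟩
  haveI := isKProjective_of_vanishesAbove hc (projective_X hP)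
  have hPR : DRing.TermwiseFlat ((rsC R A).obj P) := fun i => by
    letI : Module R (P.X i) := Module.compHom _ (algebraMap R A)
    haveI : IsScalarTower R A (P.X i) :=
      ⟨fun r x y => by rw [Algebra.smul_def, mul_smul]; rfl⟩
    haveI := (hP i).2
    exact Module.Flat.trans R A (P.X i)
  haveI : QuasiIso ((rsC R A).map f) := HomologicalComplex.quasiIso_map_of_preservesHomology f (rsM R A)
  have h1 : QuasiIso ((bc ψ).map ((rsC R A).map f)) :=
    quasiIso_bc ψ ((rsC R A).map f) (b := c) (b' := c) (fun i hi => (rsM R A).map_isZero (hc i hi))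
      (fun i hi => (rsM R A).map_isZero (hQ i (Or.inr hi))) hPR hQf
  let e' : Arrow.mk ((bc ψ).map ((rsC R A).map f)) ≅
      Arrow.mk ((rsC R' (R' ⊗[R] A)).map ((bc φ).map f)) :=
    Arrow.isoMk ((NatIso.mapHomologicalComplex (theta R A R') (ComplexShape.up ℤ)).app P)
      ((NatIso.mapHomologicalComplex (theta R A R') (ComplexShape.up ℤ)).app Q)
      ((NatIso.mapHomologicalComplex (theta R A R') (ComplexShape.up ℤ)).hom.naturality f).symm
  have h2 : QuasiIso ((rsC R' (R' ⊗[R] A)).map ((bc φ).map f)) :=
    (quasiIso_iff_of_arrow_mk_iso _ _ e').1 h1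
  haveI : QuasiIso ((bc φ).map f) :=
    (HomologicalComplex.quasiIso_map_iff_of_preservesHomology _ (rsM R' (R' ⊗[R] A))).1 h2
  refine amp_of_iso ((DRing.restrictD (algebraMap R' (R' ⊗[R] A))).mapIso
    ((asIso (DerivedCategory.Q.map ((bc φ).map f))).symm ≪≫ (lBaseChangeIso φ P).symm ≪≫
      (DRing.LBaseChange φ).mapIso e)) ?_
  exact ⟨(rsC R' (R' ⊗[R] A)).obj ((bc φ).obj Q),
    fun n hn => (rsM R' (R' ⊗[R] A)).map_isZero
      ((ModuleCat.extendScalars.{u, u, u} φ).map_isZero (hQ n hn)),
    fun n => flat_ext R A R' (hQf n),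
    ⟨((rsM R' (R' ⊗[R] A)).mapDerivedCategoryFactors.app ((bc φ).obj Q)).symm⟩⟩

end Groth.Agent.W7RelPerf
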